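import Cfsg.Agent.Cam.Alt.Main
import Cfsg.Agent.S0205
import Cfsg.Agent.S4114

/-!
# S3689, S3690: the alternating row, unconditionally (helper53)
-/

set_option autoImplicit false

namespace Cfsg.Agent.Cam.Alt

theorem ft : FT := fun _ _ _ h => S0205.result h

theorem fpf : Fpf := by
  intro T _ _ α hα
  have hinj : Function.Injective fun g : T => g⁻¹ * α g := by
    intro a b e
    have e' : a⁻¹ * α a = b⁻¹ * α b := e
    have h1 : α (b * a⁻¹) = b * a⁻¹ := by
      rw [map_mul, map_inv]
      calc α b * (α a)⁻¹ = b * (b⁻¹ * α b) * (α a)⁻¹ := by group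
        _ = _ := by rw [← e']; group
    exact (mul_inv_eq_one.1 (hα _ h1)).symm
  have hs := Finite.injective_iff_surjective.1 hinj
  refine S4114.result α (fun x => ?_) ?_
  · obtain ⟨g, hg⟩ := hs x
    exact ⟨1, g, map_one α, by rw [one_mul]; exact hg.symm⟩
  · rw [eq_top_iff]
    intro x _
    obtain ⟨g, hg⟩ := hs x
    exact Subgroup.subset_closure ⟨g, hg.symm⟩

/-- **The alternating row.** -/
theorem boxAlt : BoxAlt := boxAlt_of ft fpf

end Cfsg.Agent.Cam.Alt
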