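import Cfsg.Agent.Cam.Alt.Tools
import Cfsg.Agent.H202.TwoTransAltA

/-!
# S3689, S3690: the alternating row (helper53)

`boxAlt_of ft fpf : BoxAlt`, from the odd order theorem and the solvability of groups with a fixed point free automorphism.
-/

set_option autoImplicit false
set_option linter.unusedSectionVars false

namespace Cfsg.Agent.Cam.Alt

open Subgroup Equiv Cfsg.Agent.Cam Cfsg.Agent.Cam.Spor Cfsg.Agent.Cam.Rd

/-- the odd order theorem -/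
def FT : Prop := ∀ (T : Type) [Group T] [Finite T], Odd (Nat.card T) → Group.IsSolvable T

/-- a group with a fixed point free automorphism is solvable -/
def Fpf : Prop := ∀ (T : Type) [Group T] [Finite T] (α : MulAut T), (∀ t, α t = t → t = 1) → Group.IsSolvable T

theorem not_solvable {U : Type*} [Group U] (hs : IsSimpleGroup U) (hn : ¬ IsMulCommutative U) :
    ¬ Group.IsSolvable U := fun h => hn ⟨⟨IsSimpleGroup.comm_iff_isSolvable.2 h⟩⟩

variable {G : Type} [Group G] [Finite G] {Ω : Type} [Fintype Ω] [DecidableEq Ω] {S H : Subgroup G} {g : G}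
  {𝒯 : Set (Subgroup G)} {ρ : G →* Perm Ω}

theorem exists_ne_one (c : Cls S H g 𝒯) {T : Subgroup G} (hT : T ∈ 𝒯) : ∃ t ∈ T, t ≠ 1 := by
  have := c.tsimple T hT
  obtain ⟨t, ht⟩ := exists_ne (1 : T)
  exact ⟨t, t.2, fun h => ht (Subtype.ext h)⟩

/-- a non-trivial orbit of `X` has at least five points -/
theorem five_le_orb (c : Cls S H g 𝒯) {a : Ω} {x : G} (hx : x ∈ sSup 𝒯) (ha : ρ x a ≠ a) :
    5 ≤ (orb ρ (sSup 𝒯) a).ncard := by
  have h1 : ∃ T ∈ 𝒯, ∃ t ∈ T, ρ t a ≠ a := by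
    by_contra h
    push Not at h
    have : sSup 𝒯 ≤ (MulAction.stabilizer (Perm Ω) a).comap ρ := sSup_le fun T hT t ht => h T hT t ht
    exact ha (this hx)
  obtain ⟨T, hT, t, ht, hta⟩ := h1
  have hs := c.tsimple T hT
  obtain ⟨r, hr, h5, hd⟩ := H786.KW.exists_prime_ge_five (c.tnoncomm T hT)
  have : Fact r.Prime := ⟨hr⟩
  obtain ⟨u, hu⟩ := exists_prime_orderOf_dvd_card' r hd
  have hB : ∀ u : T, ∀ y ∈ orb ρ (sSup 𝒯) a, ρ (T.subtype u) y ∈ orb ρ (sSup 𝒯) a :=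
    fun u y hy => orb_inv hy (le_sSup hT u.2)
  have h2 : ∃ b ∈ orb ρ (sSup 𝒯) a, ρ u b ≠ b := by
    by_contra h
    push Not at h
    have := faithful_on hs T.subtype hB (u₀ := ⟨t, ht⟩) (mem_orb_self _ a) hta h
    rw [this, orderOf_one] at hu
    exact hr.one_lt.ne hu
  obtain ⟨b, hb, hub⟩ := h2
  refine h5.trans (prime_le_ncard hr (orderOf_eq_prime ?_ fun e => hub (by rw [show ρ (u : G) = 1 from e]; rfl)) (hB u) hb hub)
  change ρ (u : G) ^ r = 1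
  rw [← map_pow, ← coe_pow, ← hu, pow_orderOf_eq_one, coe_one, map_one]

theorem cent_apply {Y : Subgroup G} {z y : G} (hz : z ∈ centralizer (Y : Set G)) (hy : y ∈ Y) (a : Ω) :
    ρ z (ρ y a) = ρ y (ρ z a) := by
  rw [← ap_mul, ← ap_mul, mem_centralizer_iff.1 hz y hy]

theorem H_norm_C (c : Cls S H g 𝒯) :
    H ≤ normalizer ((centralizer ((sSup 𝒯 : Subgroup G) : Set G) : Subgroup G) : Set G) :=
  (H_norm_X' c).trans (normalizer_le_normalizer_cent _)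

theorem C_le_H' (c : Cls S H g 𝒯) : centralizer ((sSup 𝒯 : Subgroup G) : Set G) ≤ H :=
  (centralizer_le_normalizer _).trans (norm_X' c).le

/-- Case I: `X` has a fixed point -/
theorem case_fix (h : Em S ρ) (c : Cls S H g 𝒯) {f : Ω} (hf : ∀ x ∈ sSup 𝒯, ρ x f = f) : False := by
  let Δ : Set Ω := {a | ∃ x ∈ sSup 𝒯, ρ x a ≠ a}
  have hΔ : ∀ w ∈ H, ∀ a ∈ Δ, ρ w a ∈ Δ := by
    rintro w hw a ⟨x, hx, ha⟩
    refine ⟨w * x * w⁻¹, conj_mem_of_norm (H_norm_X' c hw) hx, fun e => ha ?_⟩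
    rw [ap_mul, ap_mul, ap_inv_ap] at e
    exact (ρ w).injective e
  have hΔ' : ∀ w ∈ H, ∀ a, a ∈ Δ ↔ ρ w a ∈ Δ := fun w hw a => ⟨hΔ w hw a, fun h' => by
    have := hΔ _ (inv_mem hw) _ h'
    rwa [ap_inv_ap] at this⟩
  have hfΔ : f ∉ Δ := fun ⟨x, hx, e⟩ => e (hf x hx)
  obtain ⟨T, hT⟩ := c.nonempty
  obtain ⟨t, ht, ht1⟩ := exists_ne_one c hT
  obtain ⟨a₀, ha₀⟩ := h.moves ht1
  have htX : t ∈ sSup 𝒯 := le_sSup hT ht
  have ha₀Δ : a₀ ∈ Δ := ⟨t, htX, ha₀⟩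
  have stab : ∀ w : G, (∀ a, a ∈ Δ ↔ ρ w a ∈ Δ) → w ∈ H := fun w hw =>
    h.rel_stab c.toSetup (fun a b => a ∈ Δ ↔ b ∈ Δ) (fun u hu a b e => by rw [← hΔ' u hu, ← hΔ' u hu, e])
      (a := a₀) (b := ρ t a₀) (d := f) ha₀.symm (fun e => hfΔ (e ▸ ha₀Δ))
      (hΔ' t (X_le_H' c htX) a₀) (fun e => hfΔ (e.1 ha₀Δ)) fun a b => by rw [← hw, ← hw]
  have horb : ∀ a ∈ Δ, orb ρ (sSup 𝒯) a ⊆ Δ := by
    rintro a ha _ ⟨x, hx, rfl⟩
    exact hΔ x (X_le_H' c hx) a ha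
  have trans : ∀ a ∈ Δ, ∀ b ∈ Δ, b ∈ orb ρ (sSup 𝒯) a := by
    rintro a ⟨x, hx, ha⟩ b hb
    by_cases h1 : b = a
    · exact h1 ▸ mem_orb_self _ _
    by_cases h2 : b = ρ x a
    · exact ⟨x, hx, h2.symm⟩
    obtain ⟨d, hd, hd'⟩ := pick (B := orb ρ (sSup 𝒯) a) [a, b, ρ x a] (by
      have := five_le_orb c hx ha
      simp only [List.length_cons, List.length_nil]
      omega)
    simp only [List.mem_cons, List.not_mem_nil, or_false, not_or] at hd'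
    obtain ⟨s, -, e1, -, -, e4⟩ := h.cyc (Ne.symm h2) (Ne.symm hd'.2.2) (Ne.symm hd'.2.1)
    have hxa : ρ x a ∈ Δ := hΔ x (X_le_H' c hx) a ⟨x, hx, ha⟩
    have hdΔ : d ∈ Δ := horb a ⟨x, hx, ha⟩ hd
    have hfix : ∀ y, y ∉ Δ → ρ s y = y := fun y hy =>
      e4 y (fun e => hy (e ▸ hxa)) (fun e => hy (e ▸ hb)) (fun e => hy (e ▸ hdΔ))
    have hsH : s ∈ H := stab s fun y => by
      by_cases hy : y ∈ Δ
      · refine ⟨fun _ => by_contra fun h' => h' ?_, fun _ => hy⟩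
        rwa [(ρ s).injective (hfix _ h')]
      · rw [hfix y hy]
    refine ⟨s * x * s⁻¹, conj_mem_of_norm (H_norm_X' c hsH) hx, ?_⟩
    rw [ap_mul, ap_mul, ap_inv_eq ρ (e4 a ha.symm (Ne.symm h1) (Ne.symm hd'.1)), e1]
  have hX'H : cj g (sSup 𝒯) ≤ H := cj_sSup_le fun A hA => T'_le_H c hA
  by_cases hm : ∃ a ∈ Δ, ρ g a ∈ Δ
  · obtain ⟨a, ha, hga⟩ := hm
    have h1 : ∀ b ∈ Δ, ρ g⁻¹ b ∈ Δ := by
      intro b hb
      obtain ⟨x, hx, rfl⟩ := trans _ hga b hb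
      have := hΔ _ (hX'H (conj_mem_cj' (a := g) hx)) a ha
      rwa [ap_mul, ap_mul] at this
    have h2 := ((Set.toFinite Δ).injOn_iff_bijOn_of_mapsTo (f := ρ g⁻¹) h1).1 (ρ g⁻¹).injective.injOn
    refine c.not_mem (inv_mem_iff.1 (stab g⁻¹ fun b => ⟨h1 b, fun hb => ?_⟩))
    obtain ⟨b', hb', e⟩ := h2.surjOn hb
    rwa [← (ρ g⁻¹).injective e]
  · push Not at hm
    refine not_cent c hT fun u hu => mem_centralizer_iff.2 fun y hy => h.inj ?_
    rw [map_mul, map_mul]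
    refine Perm.Disjoint.commute fun a => ?_
    by_cases ha : a ∈ Δ
    · left
      by_contra h1
      refine hm a ha ⟨_, mem_cj.1 hy, fun e => h1 ?_⟩
      rw [ap_mul, ap_mul, ap_inv_ap] at e
      exact (ρ g).injective e
    · right
      by_contra h1
      exact ha ⟨u, le_sSup hT hu, h1⟩

/-- Case II: `X` has no fixed point and is intransitive -/
theorem case_intr (big : Big) (h : Em S ρ) (c : Cls S H g 𝒯) (hnf : ∀ a, ∃ x ∈ sSup 𝒯, ρ x a ≠ a)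
    (hin : ∀ a, ∃ d, d ∉ orb ρ (sSup 𝒯) a) : False := by
  obtain ⟨T, hT⟩ := c.nonempty
  have hs := c.tsimple T hT
  obtain ⟨φ, hφ, hφ'⟩ := redCopy big G S H g 𝒯 c T hT
  obtain ⟨t₀, ht₀⟩ := exists_ne (1 : T)
  obtain ⟨a, ha⟩ := h.moves (a := φ t₀) fun e => ht₀ (hφ (e.trans (map_one φ).symm))
  obtain ⟨x, hx, hxa⟩ := hnf a
  obtain ⟨d, hd⟩ := hin a
  have hsemi : Semi ρ (centralizer ((sSup 𝒯 : Subgroup G) : Set G)) (orb ρ (sSup 𝒯) a) :=
    ⟨fun w hw => H_norm_C c (h.orb_stab c.toSetup (H_norm_X' c) hxa.symm ⟨x, hx, rfl⟩ hd hw),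
      fun z hz a' ha' e b hb => by
        obtain ⟨y, hy, rfl⟩ := orb_trans (orb_symm ha') hb
        rw [cent_apply hz hy, e]⟩
  have h5 := five_le_orb c hx hxa
  have hB : ∀ u, ∀ b ∈ orb ρ (sSup 𝒯) a, ρ (φ u) b ∈ orb ρ (sSup 𝒯) a := by
    intro u b hb
    obtain ⟨a', ha', ha''⟩ := h.semi_meet hsemi (by omega) (hφ' u).2
    obtain ⟨y, hy, rfl⟩ := orb_trans (orb_symm ha') hb
    rw [cent_apply (hφ' u).2 hy]
    exact orb_inv ha'' hy
  have h7 := (seven_le hs (c.tnoncomm T hT)).trans (card_le_of_free φ (fun u => hB u a (mem_orb_self _ _))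
    fun u hu => faithful_on hs φ hB (mem_orb_self _ a) ha (hsemi.semi _ (hφ' u).2 a (mem_orb_self _ _) hu))
  exact ha (h.semi_fix hsemi h7 (hφ' t₀).2 (mem_orb_self _ _))

/-- the centralizer of a transitive group is semiregular -/
theorem free_of_trans (h : Em S ρ) {Y : Subgroup G} (htr : ∀ a b, b ∈ orb ρ Y a) {z : G}
    (hz : z ∈ centralizer (Y : Set G)) {a : Ω} (ha : ρ z a = a) : z = 1 :=
  h.eq_one fun b => by
    obtain ⟨y, hy, rfl⟩ := htr a b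
    rw [cent_apply hz hy, ha]

/-- Case III: if `X` is transitive, so is its centralizer -/
theorem cent_trans (big : Big) (h : Em S ρ) (c : Cls S H g 𝒯) (htr : ∀ a b, b ∈ orb ρ (sSup 𝒯) a) (a b : Ω) :
    b ∈ orb ρ (centralizer ((sSup 𝒯 : Subgroup G) : Set G)) a := by
  by_contra hb
  obtain ⟨T, hT⟩ := c.nonempty
  have hs := c.tsimple T hT
  obtain ⟨φ, hφ, hφ'⟩ := redCopy big G S H g 𝒯 c T hT
  obtain ⟨t₀, ht₀⟩ := exists_ne (1 : T)
  have hfree : ∀ u, ρ (φ u) a = a → u = 1 := fun u hu =>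
    hφ ((free_of_trans h htr (hφ' u).2 hu).trans (map_one φ).symm)
  have ha : ρ (φ t₀) a ≠ a := fun e => ht₀ (hfree _ e)
  have hsemi : Semi ρ (centralizer ((sSup 𝒯 : Subgroup G) : Set G))
      (orb ρ (centralizer ((sSup 𝒯 : Subgroup G) : Set G)) a) :=
    ⟨fun w hw => H_norm_C c (h.orb_stab c.toSetup (H_norm_C c) ha.symm ⟨_, (hφ' t₀).2, rfl⟩ hb hw),
      fun z hz a' _ e b _ => by rw [free_of_trans h htr hz e, map_one, Perm.one_apply]⟩
  have h7 := (seven_le hs (c.tnoncomm T hT)).trans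
    (card_le_of_free (B := orb ρ (centralizer ((sSup 𝒯 : Subgroup G) : Set G)) a) φ
      (fun u => ⟨_, (hφ' u).2, rfl⟩) hfree)
  exact ha (h.semi_fix hsemi h7 (hφ' t₀).2 (mem_orb_self _ _))

theorem X_free (big : Big) (h : Em S ρ) (c : Cls S H g 𝒯) (htr : ∀ a b, b ∈ orb ρ (sSup 𝒯) a) {x : G}
    (hx : x ∈ sSup 𝒯) {a : Ω} (ha : ρ x a = a) : x = 1 :=
  free_of_trans h (cent_trans big h c htr) (le_centralizer_iff.1 le_rfl hx) ha

/-- Case III, one component -/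
theorem case_one (big : Big) (fpf : Fpf) (h : Em S ρ) (c : Cls S H g 𝒯) (htr : ∀ a b, b ∈ orb ρ (sSup 𝒯) a)
    {T : Subgroup G} (h1 : 𝒯 = {T}) : False := by
  have hT : T ∈ 𝒯 := by rw [h1]; rfl
  have hX : sSup 𝒯 = T := by rw [h1, sSup_singleton]
  have hs := c.tsimple T hT
  obtain ⟨-, -, T₁, h₁, T₂, h₂, ψ, hψ, -⟩ := redDiag big G S H g 𝒯 c fun A hA B hB => by
    rw [h1] at hA
    rw [Set.mem_singleton_iff.1 hA, ← hX, norm_X' c]
    exact T'_le_H c hB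
  rw [h1, Set.mem_singleton_iff] at h₁ h₂
  subst h₁
  subst h₂
  have hC : ∀ t, ψ t ∈ centralizer ((sSup 𝒯 : Subgroup G) : Set G) := fun t => by
    rw [hX]
    exact mem_centralizer_iff.2 fun a ha => hψ.comm a ha t
  have : Nonempty Ω := by
    have := h.five
    exact (Nat.card_pos_iff.1 (by omega)).1
  obtain ⟨α⟩ := this
  have hex : ∀ t : T₂, ∃ u : T₂, ρ u (ρ (ψ t) α) = α := fun t => by
    obtain ⟨y, hy, e⟩ := htr (ρ (ψ t) α) α
    exact ⟨⟨y, hX ▸ hy⟩, e⟩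
  choose β hβ using hex
  have huniq : ∀ (u v : T₂) (a : Ω), ρ u a = ρ v a → u = v := fun u v a e => by
    have h2 := X_free big h c htr (x := (v : G)⁻¹ * u) (hX.ge (mul_mem (inv_mem v.2) u.2)) (a := a)
      (by rw [ap_mul, e, ap_inv_ap])
    exact Subtype.ext (inv_mul_eq_one.1 h2).symm
  let β' : T₂ →* T₂ := MonoidHom.mk' β fun a b => huniq _ _ (ρ (ψ (a * b)) α) (by
    rw [hβ, map_mul, ap_mul, coe_mul, ap_mul, ← cent_apply (hC a) (hX ▸ (β b).2), hβ, hβ])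
  have hinj : Function.Injective β' := by
    rw [injective_iff_map_eq_one]
    intro t ht
    have h2 := hβ t
    rw [show β t = 1 from ht, coe_one, map_one, Perm.one_apply] at h2
    exact hψ.inj ((free_of_trans h htr (hC t) h2).trans (map_one ψ).symm)
  refine not_solvable hs (c.tnoncomm _ hT) (fpf T₂ (MulEquiv.ofBijective β' (Finite.injective_iff_bijective.1 hinj))
    fun t ht => ?_)
  have h2 := hβ t
  rw [show β t = t from ht, ← ap_mul] at h2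
  have h3 : g * (t * ψ t) * g⁻¹ ∈ sSup 𝒯 := hX.ge (mem_cj.1 ((hψ.mem _).2 ⟨t, rfl⟩))
  have h4 := X_free big h c htr h3 (a := ρ g α) (by rw [ap_mul, ap_mul, ap_inv_ap, h2])
  have h5 : (t : G) = (ψ t)⁻¹ := eq_inv_of_mul_eq_one_left (by simpa using h4)
  refine Subtype.ext (eq_one_of_mem_cent hs (c.tnoncomm _ hT) t.2 ?_)
  rw [h5]
  exact inv_mem (mem_centralizer_iff.2 fun a ha => hψ.comm a ha t)

/-- Case III, several components -/
theorem case_two (big : Big) (ft : FT) (h : Em S ρ) (c : Cls S H g 𝒯) (htr : ∀ a b, b ∈ orb ρ (sSup 𝒯) a)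
    {T T₂ : Subgroup G} (hT : T ∈ 𝒯) (h₂ : T₂ ∈ 𝒯) (hne : T₂ ≠ T) : False := by
  classical
  have hs := c.tsimple T hT
  set Y : Subgroup G := sSup (𝒯 \ {T}) with hY
  have hYC : Y ≤ centralizer (T : Set G) := sSup_le fun A hA a ha =>
    mem_centralizer_iff.2 fun t ht => (c.comm A hA.1 T hT hA.2 a ha t ht).symm
  have hcomm : ∀ t ∈ T, ∀ y ∈ Y, t * y = y * t := fun t ht y hy => mem_centralizer_iff.1 (hYC hy) t ht
  have hTX : T ≤ sSup 𝒯 := le_sSup hT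
  have hYX : Y ≤ sSup 𝒯 := sSup_le_sSup Set.sdiff_subset
  have hdec : ∀ x ∈ sSup 𝒯, ∃ (a : T) (b : Y), x = a * b := by
    intro x hx
    have : sSup 𝒯 ≤ T ⊔ Y := sSup_le fun A hA => by
      by_cases e : A = T
      · exact e ▸ le_sup_left
      · exact (le_sSup (show A ∈ 𝒯 \ {T} from ⟨hA, e⟩)).trans le_sup_right
    obtain ⟨a, ha, b, hb, e⟩ := mem_sup_of_comm hcomm (this hx)
    exact ⟨⟨a, ha⟩, ⟨b, hb⟩, e⟩
  have : Nonempty Ω := by
    have := h.five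
    exact (Nat.card_pos_iff.1 (by omega)).1
  obtain ⟨α⟩ := this
  let e₀ : T × Y → Ω := fun p => ρ ((p.1 : G) * p.2) α
  have hbij : Function.Bijective e₀ := by
    constructor
    · rintro ⟨a, b⟩ ⟨a', b'⟩ e
      have e' : ρ ((a : G) * b) α = ρ ((a' : G) * b') α := e
      have h1 := X_free big h c htr (x := ((a' : G) * b')⁻¹ * (a * b))
        (mul_mem (inv_mem (mul_mem (hTX a'.2) (hYX b'.2))) (mul_mem (hTX a.2) (hYX b.2))) (a := α)
        (by rw [ap_mul, e', ap_inv_ap])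
      have h2 : (a' : G) * b' = a * b := inv_mul_eq_one.1 h1
      have h3 : (a : G)⁻¹ * a' = b * (b' : G)⁻¹ := by
        calc (a : G)⁻¹ * a' = (a : G)⁻¹ * (a' * b') * (b' : G)⁻¹ := by group
          _ = _ := by rw [h2]; group
      have h4 : (a : G) = a' := inv_mul_eq_one.1 (eq_one_of_mem_cent hs (c.tnoncomm T hT) (mul_mem (inv_mem a.2) a'.2)
        (h3 ▸ hYC (mul_mem b.2 (inv_mem b'.2))))
      rw [← h4] at h2
      exact Prod.ext (Subtype.ext h4) (Subtype.ext (mul_left_cancel h2).symm)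
    · intro b
      obtain ⟨x, hx, rfl⟩ := htr α b
      obtain ⟨a, b, rfl⟩ := hdec x hx
      exact ⟨(a, b), rfl⟩
  let e : T × Y ≃ Ω := Equiv.ofBijective e₀ hbij
  have he : ∀ (a : T) (b : Y), e (a, b) = ρ ((a : G) * b) α := fun _ _ => rfl
  have : Fintype T := Fintype.ofFinite _
  have : Fintype Y := Fintype.ofFinite _
  have heven : Even (Fintype.card Y) := by
    rw [← Nat.card_eq_fintype_card, even_iff_two_dvd]
    refine dvd_trans ?_ (card_dvd_of_le (le_sSup (show T₂ ∈ 𝒯 \ {T} from ⟨h₂, hne⟩) : T₂ ≤ Y))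
    rw [← even_iff_two_dvd, ← Nat.not_odd_iff_even]
    exact fun ho => not_solvable (c.tsimple T₂ h₂) (c.tnoncomm T₂ h₂) (ft T₂ ho)
  obtain ⟨s, -, hs'⟩ := h.lift (σ := e.permCongr (Equiv.prodCongrLeft fun _ : Y => Equiv.inv T)) (by
    rw [Perm.sign_permCongr, Perm.sign_prodCongrLeft, Finset.prod_const, Finset.card_univ]
    obtain ⟨m, hm⟩ := heven
    rw [hm, ← two_mul, pow_mul, Int.units_sq, one_pow])
  have hι : ∀ (a : T) (b : Y), ρ s (e (a, b)) = e (a⁻¹, b) := fun a b => by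
    rw [hs', Equiv.permCongr_apply, Equiv.symm_apply_apply]
    rfl
  have hL : ∀ (a₁ a : T) (b₁ b : Y), ρ ((a₁ : G) * b₁) (e (a, b)) = e (a₁ * a, b₁ * b) := fun a₁ a b₁ b => by
    rw [he, he, ← ap_mul, coe_mul, coe_mul]
    congr 2
    calc (a₁ : G) * b₁ * (a * b) = a₁ * (b₁ * a) * b := by group
      _ = _ := by rw [← hcomm a a.2 b₁ b₁.2]; group
  have hR : ∀ z ∈ centralizer ((sSup 𝒯 : Subgroup G) : Set G), ∀ (a₂ : T) (b₂ : Y), ρ z α = e (a₂, b₂) →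
      ∀ (a : T) (b : Y), ρ z (e (a, b)) = e (a * a₂, b * b₂) := fun z hz a₂ b₂ hα a b => by
    rw [he, cent_apply hz (mul_mem (hTX a.2) (hYX b.2)), hα, hL]
  have key : ∀ (a₁ : T) (b₁ : Y), ∀ z ∈ centralizer ((sSup 𝒯 : Subgroup G) : Set G), ∀ (a₂ : T) (b₂ : Y),
      ρ z α = e (a₂, b₂) → ∀ z' ∈ centralizer ((sSup 𝒯 : Subgroup G) : Set G), ρ z' α = e (a₁⁻¹, b₂) →
      s * ((a₁ : G) * b₁ * z) * s⁻¹ = ((a₂⁻¹ : T) : G) * b₁ * z' := by
    intro a₁ b₁ z hz a₂ b₂ h1 z' hz' h2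
    rw [mul_inv_eq_iff_eq_mul]
    refine h.inj (Perm.ext fun p => ?_)
    obtain ⟨⟨a, b⟩, rfl⟩ := e.surjective p
    rw [ap_mul, ap_mul ρ _ z, hR z hz _ _ h1, hL, hι, ap_mul, ap_mul ρ _ z', hι, hR z' hz' _ _ h2, hL]
    congr 2
    group
  have hW : normalizer ((sSup 𝒯 ⊔ centralizer ((sSup 𝒯 : Subgroup G) : Set G) : Subgroup G) : Set G) = H :=
    norm_eq c.toConf (fun e => X_ne_bot c (eq_bot_iff.2 (e ▸ le_sup_left))) (sup_le (X_le_H' c) (C_le_H' c))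
      fun w hw => norm_sup (H_norm_X' c hw) (H_norm_C c hw)
  have hsH : s ∈ H := by
    rw [← hW]
    refine mem_normalizer_of fun w hw => ?_
    obtain ⟨x, hx, z, hz, rfl⟩ := mem_sup_of_comm (fun x hx z hz => mem_centralizer_iff.1 hz x hx) hw
    obtain ⟨a₁, b₁, rfl⟩ := hdec x hx
    obtain ⟨⟨a₂, b₂⟩, h1⟩ := e.surjective (ρ z α)
    obtain ⟨z', hz', h2⟩ := cent_trans big h c htr α (e (a₁⁻¹, b₂))
    rw [key a₁ b₁ z hz a₂ b₂ h1.symm z' hz' h2]
    exact mul_mem (mem_sup_left (mul_mem (hTX (a₂⁻¹).2) (hYX b₁.2))) (mem_sup_right hz')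
  obtain ⟨t, ht⟩ := exists_ne (1 : T)
  obtain ⟨z', hz', h2⟩ := cent_trans big h c htr α (e (t⁻¹, 1))
  have h3 := key t 1 1 (one_mem _) 1 1 (by rw [he]; simp) z' hz' h2
  simp only [coe_one, mul_one, inv_one, one_mul] at h3
  have h4 : z' ∈ sSup 𝒯 := h3 ▸ conj_mem_of_norm (H_norm_X' c hsH) (hTX t.2)
  rw [he, coe_one, mul_one, coe_inv] at h2
  have h5 := X_free big h c htr (x := t * z') (mul_mem (hTX t.2) h4) (a := α) (by rw [ap_mul, h2, ap_ap_inv])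
  refine ht (Subtype.ext (eq_one_of_mem_cent hs (c.tnoncomm T hT) t.2 ?_))
  rw [eq_inv_of_mul_eq_one_left h5]
  exact inv_mem (centralizer_le hTX hz')

theorem false_of_em (big : Big) (ft : FT) (fpf : Fpf) (h : Em S ρ) (c : Cls S H g 𝒯) : False := by
  by_cases h1 : ∃ f, ∀ x ∈ sSup 𝒯, ρ x f = f
  · obtain ⟨f, hf⟩ := h1
    exact case_fix h c hf
  push Not at h1
  by_cases h2 : ∀ a, ∃ d, d ∉ orb ρ (sSup 𝒯) a
  · exact case_intr big h c h1 h2
  push Not at h2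
  obtain ⟨a₀, h2⟩ := h2
  have htr : ∀ a b, b ∈ orb ρ (sSup 𝒯) a := fun a b => orb_trans (orb_symm (h2 a)) (h2 b)
  obtain ⟨T, hT⟩ := c.nonempty
  by_cases h3 : ∃ T₂ ∈ 𝒯, T₂ ≠ T
  · obtain ⟨T₂, h₂, hne⟩ := h3
    exact case_two big ft h c htr hT h₂ hne
  · push Not at h3
    exact case_one big fpf h c htr (T := T) (Set.eq_singleton_iff_unique_mem.2 ⟨hT, h3⟩)

/-- the square of a prime `r ≥ 5` divides the order of the socle -/
theorem sq_dvd (big : Big) (c : Cls S H g 𝒯) : ∃ r : ℕ, r.Prime ∧ 5 ≤ r ∧ r ^ 2 ∣ Nat.card S := by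
  obtain ⟨T, hT⟩ := c.nonempty
  have hs := c.tsimple T hT
  obtain ⟨φ, hφ, hφ'⟩ := redCopy big G S H g 𝒯 c T hT
  obtain ⟨r, hr, h5, hd⟩ := H786.KW.exists_prime_ge_five (c.tnoncomm T hT)
  let f : Fin 2 → (T →* S) := ![inclusion (c.le_S T hT), φ.codRestrict S fun t => (hφ' t).1]
  have hc : ∀ x y : T, Commute (f 0 x) (f 1 y) := fun x y =>
    Subtype.ext (mem_centralizer_iff.1 (hφ' y).2 x (le_sSup hT x.2 : (x : G) ∈ sSup 𝒯))
  have h1 := pi_inj hs (c.tnoncomm T hT) f (by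
      intro i
      fin_cases i
      · exact inclusion_injective (c.le_S T hT)
      · exact fun x y e => hφ (congrArg Subtype.val e)) (by
      intro i j hij x y
      fin_cases i <;> fin_cases j
      · exact absurd rfl hij
      · exact hc x y
      · exact (hc y x).symm
      · exact absurd rfl hij)
  refine ⟨r, hr, h5, dvd_trans ?_ (card_dvd_of_injective _ h1)⟩
  rw [Nat.card_fun, Nat.card_eq_fintype_card (α := Fin 2), Fintype.card_fin]
  exact pow_dvd_pow_of_dvd hd 2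

/-- **The alternating row.** -/
theorem boxAlt_of (ft : FT) (fpf : Fpf) : BoxAlt := by
  rintro big - G _ _ S H g c ⟨n, hn, ⟨e⟩⟩
  obtain ⟨𝒯, c⟩ := redCls big G S H g c
  have h6 : n ≠ 6 := by
    rintro rfl
    obtain ⟨r, hr, h5, hd⟩ := sq_dvd big c
    rw [Nat.card_congr e.toEquiv, nat_card_alternatingGroup, Nat.card_eq_fintype_card, Fintype.card_fin] at hd
    have h1 : r ^ 2 ∣ 360 := hd
    have h2 : r ≤ 18 := by
      by_contra h
      have := Nat.le_of_dvd (by norm_num) h1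
      nlinarith
    interval_cases r <;> first | omega | exact absurd hr (by norm_num)
  have := c.normal
  obtain ⟨ψ, hψ⟩ := H202.TwoTransAlt.exists_emb c.cent hn h6 e
  exact false_of_em big ft fpf ⟨hψ.inj, hψ.map, by simpa using hn⟩ c

end Cfsg.Agent.Cam.Alt
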