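import Cfsg.Agent.Cam.Red.Count

/-!
# S3689, S3690: the alternating row, tools (helper53)

`G` acts faithfully on `Ω` through `ρ`, and `S` is mapped onto the alternating group.
-/

set_option autoImplicit false
set_option linter.unusedSectionVars false

namespace Cfsg.Agent.Cam.Alt

open Subgroup Equiv Cfsg.Agent.Cam Cfsg.Agent.Cam.Spor Cfsg.Agent.Cam.Rd

theorem pick {Ω : Type*} {B : Set Ω} (l : List Ω) (h : l.length < B.ncard) : ∃ x ∈ B, x ∉ l := by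
  classical
  obtain ⟨x, h1, h2⟩ := Set.exists_mem_notMem_of_ncard_lt_ncard (s := (l.toFinset : Set Ω)) (t := B)
    (by rw [Set.ncard_coe_finset]; exact (List.toFinset_card_le l).trans_lt h)
  exact ⟨x, h1, fun h3 => h2 (by simpa using h3)⟩

/-- a permutation of prime order `r` moving a point of an invariant set -/
theorem prime_le_ncard {Ω : Type*} [Finite Ω] {σ : Perm Ω} {r : ℕ} (hr : r.Prime) (hσ : orderOf σ = r) {B : Set Ω}
    (hB : ∀ x ∈ B, σ x ∈ B) {b : Ω} (hb : b ∈ B) (hσb : σ b ≠ b) : r ≤ B.ncard := by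
  have h1 : ∀ i : ℕ, (σ ^ i) b ∈ B := by
    intro i
    induction i with
    | zero => exact hb
    | succ i ih =>
      rw [pow_succ', Perm.mul_apply]
      exact hB _ ih
  have h2 : ∀ i j : ℕ, i < j → j < r → (σ ^ i) b ≠ (σ ^ j) b := by
    intro i j hij hj h
    obtain ⟨k, rfl⟩ := Nat.exists_eq_add_of_lt hij
    rw [add_assoc, pow_add, Perm.mul_apply] at h
    have h3 : (σ ^ (k + 1)) b = b := ((σ ^ i).injective h).symm
    obtain ⟨m, hm⟩ := exists_pow_eq_self_of_coprime (x := σ) (n := k + 1) (by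
      rw [hσ]
      exact (Nat.coprime_of_lt_prime (by omega) (by omega) hr).symm)
    exact hσb (by rw [← hm]; exact Perm.pow_apply_eq_self_of_apply_eq_self h3 m)
  have h4 := Set.ncard_le_ncard_of_injOn (s := (Set.univ : Set (Fin r))) (t := B) (fun i => (σ ^ (i : ℕ)) b)
    (fun i _ => h1 i) (fun i _ j _ h => by
      rcases lt_trichotomy (i : ℕ) j with h' | h' | h'
      · exact absurd h (h2 _ _ h' j.2)
      · exact Fin.ext h'
      · exact absurd h.symm (h2 _ _ h' i.2))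
  rwa [Set.ncard_univ, Nat.card_eq_fintype_card, Fintype.card_fin] at h4

theorem seven_le {U : Type*} [Group U] [Finite U] (hs : IsSimpleGroup U) (hn : ¬ IsMulCommutative U) :
    7 ≤ Nat.card U := by
  obtain ⟨r, hr, h5, k, hk⟩ := H786.KW.exists_prime_ge_five hn
  have h0 : k ≠ 0 := by
    rintro rfl
    exact Nat.card_pos.ne' hk
  have h1 : k ≠ 1 := by
    rintro rfl
    have : Fact r.Prime := ⟨hr⟩
    have : IsCyclic U := isCyclic_of_prime_card (p := r) (by simpa using hk)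
    exact hn IsCyclic.isMulCommutative
  have : 5 * 2 ≤ r * k := Nat.mul_le_mul h5 (by omega)
  omega

section emb
variable {G : Type} [Group G] {Ω : Type} [Fintype Ω] [DecidableEq Ω] {S H : Subgroup G} {ρ : G →* Perm Ω}

/-- `ρ` is faithful and maps `S` onto the alternating group of `Ω` -/
structure Em (S : Subgroup G) (ρ : G →* Perm Ω) : Prop where
  inj : Function.Injective ρ
  map : S.map ρ = alternatingGroup Ω
  five : 5 ≤ Nat.card Ω

theorem ap_mul (ρ : G →* Perm Ω) (a b : G) (x : Ω) : ρ (a * b) x = ρ a (ρ b x) := by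
  rw [map_mul, Perm.mul_apply]

theorem ap_inv_ap (ρ : G →* Perm Ω) (a : G) (x : Ω) : ρ a⁻¹ (ρ a x) = x := by
  rw [← ap_mul, inv_mul_cancel, map_one, Perm.one_apply]

theorem ap_ap_inv (ρ : G →* Perm Ω) (a : G) (x : Ω) : ρ a (ρ a⁻¹ x) = x := by
  rw [← ap_mul, mul_inv_cancel, map_one, Perm.one_apply]

theorem ap_inv_eq (ρ : G →* Perm Ω) {a : G} {x y : Ω} (h : ρ a x = y) : ρ a⁻¹ y = x := by
  rw [← h, ap_inv_ap]

theorem Em.lift (h : Em S ρ) {σ : Perm Ω} (hσ : Perm.sign σ = 1) : ∃ s ∈ S, ρ s = σ := by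
  have : σ ∈ S.map ρ := by
    rw [h.map]
    exact Perm.mem_alternatingGroup.2 hσ
  exact this

theorem Em.eq_one (h : Em S ρ) {a : G} (ha : ∀ x, ρ a x = x) : a = 1 :=
  h.inj (by rw [map_one]; exact Perm.ext ha)

theorem Em.moves (h : Em S ρ) {a : G} (ha : a ≠ 1) : ∃ x, ρ a x ≠ x := by
  by_contra h'
  push Not at h'
  exact ha (h.eq_one h')

/-- three-cycles -/
theorem Em.cyc (h : Em S ρ) {b c d : Ω} (hbc : b ≠ c) (hbd : b ≠ d) (hcd : c ≠ d) :
    ∃ s ∈ S, ρ s b = c ∧ ρ s c = d ∧ ρ s d = b ∧ ∀ x, x ≠ b → x ≠ c → x ≠ d → ρ s x = x := by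
  obtain ⟨s, hs, e⟩ := h.lift (σ := swap d b * swap b c) (by
    rw [map_mul, Perm.sign_swap hbd.symm, Perm.sign_swap hbc]
    rfl)
  refine ⟨s, hs, ?_, ?_, ?_, fun x h1 h2 h3 => ?_⟩
  · rw [e, Perm.mul_apply, swap_apply_left, swap_apply_of_ne_of_ne hcd hbc.symm]
  · rw [e, Perm.mul_apply, swap_apply_right, swap_apply_right]
  · rw [e, Perm.mul_apply, swap_apply_of_ne_of_ne hbd.symm hcd.symm, swap_apply_left]
  · rw [e, Perm.mul_apply, swap_apply_of_ne_of_ne h1 h2, swap_apply_of_ne_of_ne h3 h1]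

/-- the stabilizer of a non-trivial `H`-invariant relation is `H` -/
theorem Em.rel_stab (h : Em S ρ) (c : Setup S H) (r : Ω → Ω → Prop)
    (hr : ∀ w ∈ H, ∀ a b, r a b → r (ρ w a) (ρ w b)) {a b d : Ω} (hab : a ≠ b) (had : a ≠ d) (h1 : r a b)
    (h2 : ¬ r a d) {w : G} (hw : ∀ a b, r a b ↔ r (ρ w a) (ρ w b)) : w ∈ H := by
  let W : Subgroup G :=
    { carrier := {w | ∀ a b, r a b ↔ r (ρ w a) (ρ w b)}
      one_mem' := fun a b => by simp
      mul_mem' := fun {u v} hu hv a b => by rw [ap_mul, ap_mul, ← hu, ← hv]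
      inv_mem' := fun {u} hu a b => by rw [hu (ρ u⁻¹ a), ap_ap_inv, ap_ap_inv] }
  have hHW : H ≤ W := fun u hu a b => ⟨hr u hu a b, fun h' => by
    have := hr _ (inv_mem hu) _ _ h'
    rwa [ap_inv_ap, ap_inv_ap] at this⟩
  rcases c.coatom.le_iff.1 hHW with h3 | h3
  · exfalso
    have hbd : b ≠ d := fun e => h2 (e ▸ h1)
    obtain ⟨x, -, hx⟩ := pick (B := Set.univ) [a, b, d] (by
      have := h.five
      rw [Set.ncard_univ]
      simp only [List.length_cons, List.length_nil]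
      omega)
    simp only [List.mem_cons, List.not_mem_nil, or_false, not_or] at hx
    obtain ⟨s, -, e1, -, -, e4⟩ := h.cyc hbd (Ne.symm hx.2.1) (Ne.symm hx.2.2)
    have h4 : s ∈ W := h3 ▸ mem_top s
    have h5 := (h4 a b).1 h1
    rw [e1, e4 a hab had (Ne.symm hx.1)] at h5
    exact h2 h5
  · exact h3 ▸ (hw : w ∈ W)

/-- the orbit of `a` under `Y` -/
def orb (ρ : G →* Perm Ω) (Y : Subgroup G) (a : Ω) : Set Ω := {b | ∃ y ∈ Y, ρ y a = b}

theorem mem_orb_self (Y : Subgroup G) (a : Ω) : a ∈ orb ρ Y a := ⟨1, one_mem _, by simp⟩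

theorem orb_inv {Y : Subgroup G} {a b : Ω} (hb : b ∈ orb ρ Y a) {y : G} (hy : y ∈ Y) : ρ y b ∈ orb ρ Y a := by
  obtain ⟨z, hz, rfl⟩ := hb
  exact ⟨y * z, mul_mem hy hz, ap_mul _ _ _ _⟩

theorem orb_symm {Y : Subgroup G} {a b : Ω} (hb : b ∈ orb ρ Y a) : a ∈ orb ρ Y b := by
  obtain ⟨z, hz, rfl⟩ := hb
  exact ⟨z⁻¹, inv_mem hz, ap_inv_ap _ _ _⟩

theorem orb_trans {Y : Subgroup G} {a b d : Ω} (hb : b ∈ orb ρ Y a) (hd : d ∈ orb ρ Y b) : d ∈ orb ρ Y a := by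
  obtain ⟨z, hz, rfl⟩ := hd
  exact orb_inv hb hz

/-- if `Y` is normalized by `H`, and `a` has a non-trivial proper orbit, the elements supported on the orbit lie in `H` -/
theorem Em.orb_stab (h : Em S ρ) (c : Setup S H) {Y : Subgroup G} (hY : H ≤ normalizer (Y : Set G)) {a b d : Ω}
    (hab : a ≠ b) (hb : b ∈ orb ρ Y a) (hd : d ∉ orb ρ Y a) {w : G} (hw : ∀ x, x ∉ orb ρ Y a → ρ w x = x) :
    w ∈ H := by
  have key : ∀ x, ρ w x ∈ orb ρ Y x := by
    intro x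
    by_cases hx : x ∈ orb ρ Y a
    · by_cases hx' : ρ w x ∈ orb ρ Y a
      · exact orb_trans (orb_symm hx) hx'
      · exact absurd ((ρ w).injective (hw _ hx') ▸ hx') (not_not.2 hx)
    · rw [hw x hx]
      exact mem_orb_self _ _
  refine h.rel_stab c (fun x y => y ∈ orb ρ Y x) ?_ hab (fun e => hd (e ▸ mem_orb_self _ _)) hb hd fun x y => ?_
  · rintro u hu x _ ⟨y, hy, rfl⟩
    exact ⟨u * y * u⁻¹, conj_mem_of_norm (hY hu) hy, by rw [ap_mul, ap_mul, ap_inv_ap]⟩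
  · exact ⟨fun h' => orb_trans (orb_trans (orb_symm (key x)) h') (key y),
      fun h' => orb_trans (orb_trans (key x) h') (orb_symm (key y))⟩

/-- `Z` is normalized by the three-cycles in `B` and semiregular on `B` -/
structure Semi (ρ : G →* Perm Ω) (Z : Subgroup G) (B : Set Ω) : Prop where
  nrm : ∀ w : G, (∀ x, x ∉ B → ρ w x = x) → w ∈ normalizer (Z : Set G)
  semi : ∀ z ∈ Z, ∀ a ∈ B, ρ z a = a → ∀ b ∈ B, ρ z b = b

theorem Em.semi_core (h : Em S ρ) {Z : Subgroup G} {B : Set Ω} (hs : Semi ρ Z B) {c : G} (hc : c ∈ Z) {a e f x : Ω}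
    (ha : a ∈ B) (he : e ∈ B) (hf : f ∈ B) (hx : x ∈ B) (hae : a ≠ e) (haf : a ≠ f) (hef : e ≠ f)
    (h1 : ρ c⁻¹ a ≠ a) (h2 : ρ c⁻¹ a ≠ e) (h3 : ρ c⁻¹ a ≠ f) (h4 : x ≠ a) (h5 : x ≠ e) (h6 : x ≠ f)
    (h7 : ρ c⁻¹ x ≠ a) (h8 : ρ c⁻¹ x ≠ e) (h9 : ρ c⁻¹ x ≠ f) : False := by
  obtain ⟨d, -, e1, -, -, e4⟩ := h.cyc hae haf hef
  have hd := hs.nrm d fun y hy => e4 y (fun e => hy (e ▸ ha)) (fun e => hy (e ▸ he)) (fun e => hy (e ▸ hf))
  have hz : c * (d * c⁻¹ * d⁻¹) ∈ Z := mul_mem hc (conj_mem_of_norm hd (inv_mem hc))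
  have h10 := hs.semi _ hz x hx (by
    rw [ap_mul, ap_mul, ap_mul, ap_inv_eq ρ (e4 x h4 h5 h6), e4 _ h7 h8 h9, ap_ap_inv]) e he
  rw [ap_mul, ap_mul, ap_mul, ap_inv_eq ρ e1, e4 _ h1 h2 h3, ap_ap_inv] at h10
  exact hae h10

theorem Em.semi_fix (h : Em S ρ) {Z : Subgroup G} {B : Set Ω} (hs : Semi ρ Z B) (h7 : 7 ≤ B.ncard) {c : G}
    (hc : c ∈ Z) {a : Ω} (ha : a ∈ B) : ρ c a = a := by
  by_contra hca
  obtain ⟨e, he, he'⟩ := pick (B := B) [a, ρ c⁻¹ a] (by simp only [List.length_cons, List.length_nil]; omega)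
  obtain ⟨f, hf, hf'⟩ := pick (B := B) [a, ρ c⁻¹ a, e] (by simp only [List.length_cons, List.length_nil]; omega)
  obtain ⟨x, hx, hx'⟩ := pick (B := B) [a, e, f, ρ c a, ρ c e, ρ c f]
    (by simp only [List.length_cons, List.length_nil]; omega)
  simp only [List.mem_cons, List.not_mem_nil, or_false, not_or] at he' hf' hx'
  have k : ∀ y z, x ≠ ρ c y → z = y → ρ c⁻¹ x ≠ z := fun y z h1 h2 h3 => h1 (by rw [← h2, ← h3, ap_ap_inv])
  exact h.semi_core hs hc ha he hf hx (Ne.symm he'.1) (Ne.symm hf'.1) (Ne.symm hf'.2.2)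
    (fun e => hca (by conv_lhs => rw [← e, ap_ap_inv])) (Ne.symm he'.2) (Ne.symm hf'.2.1) hx'.1 hx'.2.1 hx'.2.2.1
    (k _ _ hx'.2.2.2.1 rfl) (k _ _ hx'.2.2.2.2.1 rfl) (k _ _ hx'.2.2.2.2.2 rfl)

theorem Em.semi_meet (h : Em S ρ) {Z : Subgroup G} {B : Set Ω} (hs : Semi ρ Z B) (h4 : 4 ≤ B.ncard) {c : G}
    (hc : c ∈ Z) : ∃ a ∈ B, ρ c a ∈ B := by
  by_contra hca
  push Not at hca
  obtain ⟨a, ha, -⟩ := pick (B := B) [] (by simp only [List.length_nil]; omega)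
  obtain ⟨e, he, he'⟩ := pick (B := B) [a] (by simp only [List.length_cons, List.length_nil]; omega)
  obtain ⟨f, hf, hf'⟩ := pick (B := B) [a, e] (by simp only [List.length_cons, List.length_nil]; omega)
  obtain ⟨x, hx, hx'⟩ := pick (B := B) [a, e, f] (by simp only [List.length_cons, List.length_nil]; omega)
  simp only [List.mem_cons, List.not_mem_nil, or_false, not_or] at he' hf' hx'
  have k : ∀ y ∈ B, ∀ z ∈ B, ρ c⁻¹ y ≠ z := fun y hy z hz e => hca z hz (by rw [← e, ap_ap_inv]; exact hy)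
  exact h.semi_core hs hc ha he hf hx (Ne.symm he') (Ne.symm hf'.1) (Ne.symm hf'.2) (k _ ha _ ha) (k _ ha _ he)
    (k _ ha _ hf) hx'.1 hx'.2.1 hx'.2.2 (k _ hx _ ha) (k _ hx _ he) (k _ hx _ hf)

/-- a simple group preserving `B` acts trivially or faithfully on `B` -/
theorem faithful_on {U : Type*} [Group U] (hs : IsSimpleGroup U) (φ : U →* G) {B : Set Ω}
    (hB : ∀ u, ∀ x ∈ B, ρ (φ u) x ∈ B) {u₀ : U} {a : Ω} (ha : a ∈ B) (h₀ : ρ (φ u₀) a ≠ a) {u : U}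
    (hu : ∀ x ∈ B, ρ (φ u) x = x) : u = 1 := by
  let K : Subgroup U :=
    { carrier := {u | ∀ x ∈ B, ρ (φ u) x = x}
      one_mem' := fun x _ => by simp
      mul_mem' := fun {u v} hu hv x hx => by rw [map_mul, ap_mul, hv x hx, hu x hx]
      inv_mem' := fun {u} hu x hx => by rw [map_inv]; exact ap_inv_eq ρ (hu x hx) }
  have hK : K.Normal := ⟨fun u hu v x hx => by
    rw [map_mul φ, map_mul φ, ap_mul, ap_mul, hu _ (hB _ x hx), map_inv φ, ap_ap_inv]⟩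
  rcases hs.eq_bot_or_eq_top_of_normal K hK with h | h
  · exact mem_bot.1 (h ▸ (hu : u ∈ K))
  · exact absurd ((h ▸ mem_top u₀ : u₀ ∈ K) a ha) h₀

/-- a group acting freely at `a` -/
theorem card_le_of_free {U : Type*} [Group U] (φ : U →* G) {B : Set Ω} {a : Ω} (hB : ∀ u, ρ (φ u) a ∈ B)
    (hf : ∀ u, ρ (φ u) a = a → u = 1) : Nat.card U ≤ B.ncard := by
  rw [← Set.ncard_univ]
  refine Set.ncard_le_ncard_of_injOn (fun u => ρ (φ u) a) (fun u _ => hB u) fun u _ v _ e => ?_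
  have e' : ρ (φ u) a = ρ (φ v) a := e
  refine (inv_mul_eq_one.1 (hf (v⁻¹ * u) ?_)).symm
  rw [map_mul, ap_mul, e', map_inv, ap_inv_ap]

end emb

end Cfsg.Agent.Cam.Alt
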